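/-
S3355: the end game in the Leech lattice.
-/
import Cfsg.Agent.REC.F23.LN
import Cfsg.Agent.SPOR.LeechOrder
import Cfsg.Agent.S0391
import Cfsg.Agent.S0392
import Cfsg.Agent.S0400
import Cfsg.Agent.S0401
import Cfsg.Agent.S1569
import Cfsg.Agent.S1570
import Cfsg.Agent.S5592

set_option autoImplicit false

namespace CL.F23

open Matrix Module

variable {G : Type*} [Group G] {ρ : G →* (V →ₗ[ℚ] V)} {b : LinearMap.BilinForm ℚ V} {τ : G}
  {L : Submodule ℤ V} {u x1 : V} {m : ℤ}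

namespace LEx

open Cfsg Cfsg.Spor CL.Leech

/-- the sign as an element of `ZMod 2` -/
def sg : ℤˣ →* Multiplicative (ZMod 2) :=
  MonoidHom.mk' (fun e => if e = 1 then 1 else Multiplicative.ofAdd 1) (by decide)

theorem sg_eq : ∀ e, sg e = 1 → e = 1 := by decide

theorem emb (ψ : G →* Co0) (ε : G →* ℤˣ) (inj : ∀ g, ε g = 1 → ψ g = 1 → g = 1) {y w : leechLattice}
    (hy : ∀ g, ψ g • y = y) (hk : ∃ k : Co0, k • y = w) :
    ∃ f : G →* Multiplicative (ZMod 2) ×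
      (Co0 ⊓ MulAction.stabilizer (Equiv.Perm leechLattice) w : Subgroup _), Function.Injective f := by
  obtain ⟨k, rfl⟩ := hk
  refine ⟨(sg.comp ε).prod ((Co0.subtype.comp ((MulAut.conj k).toMonoidHom.comp ψ)).codRestrict _
    fun g => Subgroup.mem_inf.2 ⟨(k * ψ g * k⁻¹).2, ?_⟩), (injective_iff_map_eq_one _).2 fun g hg => ?_⟩
  · change (k * ψ g * k⁻¹) • k • y = k • y
    rw [mul_smul, inv_smul_smul, mul_smul, hy]
  · have e : k * ψ g * k⁻¹ = 1 := Subtype.ext (congrArg (fun p => p.2.1) hg)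
    exact inj g (sg_eq _ (congrArg Prod.fst hg)) (by simpa using e)

theorem sq_one (e : ℤˣ) : ((e : ℤ) : ℚ) * ((e : ℤ) : ℚ) = 1 := by
  rcases Int.units_eq_one_or e with rfl | rfl <;> simp

theorem exists_psi (h : Ctx ρ b) (M : Submodule ℤ (V × ℚ)) (φ : M ≃+ leechLattice)
    (hφ : ∀ x : M, (sqNorm ((φ x : leechLattice) : GolayPt → ℤ) : ℚ) = 8 * eForm b m x x) (ε : G →* ℤˣ)
    (hε : ∀ g, ∀ p ∈ M, (ρ g p.1, ((ε g : ℤ) : ℚ) * p.2) ∈ M) :
    ∃ ψ : G →* Co0, ∀ g v, ((φ.symm (ψ g • v) : M) : V × ℚ) =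
      (((ε g : ℤ) : ℚ) • ρ g (φ.symm v : V × ℚ).1, (φ.symm v : V × ℚ).2) := by
  have hA : ∀ g, ∀ p ∈ M, (((ε g : ℤ) : ℚ) • ρ g p.1, p.2) ∈ M := fun g p hp => by
    convert M.smul_mem (ε g : ℤ) (hε g p hp) using 1
    rw [← Int.cast_smul_eq_zsmul ℚ, Prod.smul_mk, smul_eq_mul, ← mul_assoc, sq_one, one_mul]
  let A : G → M →+ M := fun g => AddMonoidHom.mk' (fun p => ⟨_, hA g p p.2⟩) fun p q =>
    Subtype.ext (by simp)
  have : ∀ g, ∃ k : Co0, ∀ v, k • v = φ (A g (φ.symm v)) := fun g =>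
    exists_co_of_hom (φ.toAddMonoidHom.comp ((A g).comp φ.symm.toAddMonoidHom)) fun v => by
      obtain ⟨p, rfl⟩ := φ.surjective v
      refine Int.cast_injective (α := ℚ) ((hφ _).trans (Eq.trans ?_ (hφ p).symm))
      simp only [AddMonoidHom.comp_apply, AddEquiv.coe_toAddMonoidHom, AddEquiv.symm_apply_apply, A,
        AddMonoidHom.mk'_apply, eForm_apply, map_smul, LinearMap.smul_apply, smul_eq_mul, h.inv,
        ← mul_assoc, sq_one, one_mul]
  choose ψ hψ using this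
  refine ⟨MonoidHom.mk' ψ fun g k => co_ext fun v => ?_, fun g v => ?_⟩
  · rw [mul_smul, hψ, hψ, hψ, φ.symm_apply_apply]
    exact congrArg φ (Subtype.ext (by simp [A, mul_smul]))
  · rw [MonoidHom.mk'_apply, hψ, φ.symm_apply_apply]; rfl

end LEx

open Cfsg Cfsg.Spor CL.Leech LEx in
/-- Proof.  `ψ : G →* Co0`, `ψ g • φ p = φ (ρ g p.1, ε g * p.2)` (additive, norm preserving; `exists_co_of_hom`, `co_ext`),
injective since `M` spans and `ρ` is injective.  `v = φ (0,1) ∉ 2Λ`, `ψ g • v = ± v`.  S1570: `y ≡ v mod 2Λ`, `sqNorm y ≤ 64`,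
`y ≠ 0`, so `sqNorm y ∈ {32, 48, 64}` (S0391, S0392), and `ψ g • y ≡ y mod 2Λ`.
* 32 or 48: S5592 gives `ψ g • y = ± y`; `y = φ (x, t)`, `ρ g x = ± x`, `x = 0` (`Ctx.eq_zero`), so `ψ g • y = ε g • y`.
  `ψ' g = ψ g * neg1^(ε g)` fixes `y` (`neg1` central of order 2); conjugate `y` to `leechU`/`leechV` (S0400, S0401);
  `f g = (ε g, ψ' g)` is injective (`ℤˣ ≃* Multiplicative (ZMod 2)`, or define the first component by `if ε g = 1`).
* 64: `S = {x | x ≠ 0 ∧ ∃ t, (x, t) ∈ M ∧ φ (x, t) ∈ cross y}` has at most 48 elements (S1569), is non-empty (at most two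
  elements of the cross have `x = 0`: `m t² = 8`), closed under `-` and `ρ g`; `Ctx.idx` contradicts `hI`. -/
theorem Ctx.goal [Finite G] (h : Ctx ρ b) (hm : 0 < m) (M : Submodule ℤ (V × ℚ)) (hM : M.IsLattice ℚ)
    (φ : M ≃+ Cfsg.leechLattice)
    (hφ : ∀ x y : M, (Cfsg.dotInt ((φ x : Cfsg.leechLattice) : Cfsg.GolayPt → ℤ) (φ y : Cfsg.leechLattice) : ℚ) =
      8 * eForm b m x y)
    (h1 : ((0 : V), (1 : ℚ)) ∈ M) (hh : ((0 : V), (1 / 2 : ℚ)) ∉ M) (ε : G →* ℤˣ)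
    (hε : ∀ g, ∀ p ∈ M, (ρ g p.1, ((ε g : ℤ) : ℚ) * p.2) ∈ M) (hI : ¬ Idx G) : Goal G := by
  have hn : ∀ x : M, (sqNorm ((φ x : leechLattice) : GolayPt → ℤ) : ℚ) = 8 * eForm b m x x :=
    fun x => by rw [sqNorm_eq_dot, hφ]
  obtain ⟨ψ, hψ⟩ := exists_psi h M φ hn ε hε
  have pinj : ∀ v w : leechLattice, ((φ.symm v : M) : V × ℚ) = (φ.symm w : M) → v = w :=
    fun v w e => φ.symm.injective (Subtype.ext e)
  have inj : ∀ g, ε g = 1 → ψ g = 1 → g = 1 := fun g e1 e2 => h.inj (by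
    have : (ρ g).comp (LinearMap.fst ℚ V ℚ) = LinearMap.fst ℚ V ℚ :=
      LinearMap.ext_on hM.span_eq_top fun p hp => by
        have := congrArg Prod.fst (hψ g (φ ⟨p, hp⟩))
        simpa [e1, e2] using this.symm
    rw [map_one]
    exact LinearMap.ext fun x => LinearMap.congr_fun this (x, 0))
  obtain ⟨y0, hy0, yn, z0, hz0, hz⟩ := Cfsg.Agent.S1570.result _ (φ ⟨_, h1⟩).2
  lift y0 to leechLattice using hy0 with y
  lift z0 to leechLattice using hz0 with z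
  have hz' : φ ⟨_, h1⟩ - y = 2 • z := Subtype.ext hz
  have fv : ∀ g, ψ g • φ ⟨_, h1⟩ = φ ⟨_, h1⟩ := fun g => pinj _ _ (by simp [hψ])
  have cg : ∀ g, y - ψ g • y = 2 • (ψ g • z - z) := fun g => by
    rw [smul_sub, ← smul_nsmul, ← hz', smul_sub, fv]; abel
  have y0 : (y : GolayPt → ℤ) ≠ 0 := fun e => hh (by
    have e1 := congrArg (fun v => ((φ.symm v : M) : V × ℚ)) hz'
    simp only [show y = 0 from Subtype.ext e, sub_zero, AddEquiv.symm_apply_apply, map_nsmul,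
      Submodule.coe_smul_of_tower] at e1
    have e2 : ((φ.symm z : M) : V × ℚ) = (1 / 2 : ℚ) • ((0 : V), (1 : ℚ)) := by
      rw [e1, ← Nat.cast_smul_eq_nsmul ℚ, smul_smul]; norm_num
    simpa [e2] using (φ.symm z).2)
  have y1 := Cfsg.Agent.S0391.result _ y.2 y0
  have y2 := Cfsg.Agent.S0392.result _ y.2
  by_cases y3 : sqNorm (y : GolayPt → ℤ) = 64
  · exfalso
    set C : Set leechLattice := Subtype.val ⁻¹' cross y with hC
    have c48 : C.ncard = 48 := by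
      rw [hC, Set.ncard_preimage_of_injective_subset_range Subtype.val_injective
        fun x hx => ⟨⟨x, hx.1⟩, rfl⟩, Cfsg.Agent.S1569.result _ y.2 y3]
    have cf : C.Finite := Set.finite_of_ncard_ne_zero (by omega)
    have mem : ∀ w, w ∈ C ↔ sqNorm (w : GolayPt → ℤ) = 64 ∧ ∃ z : leechLattice, y - w = 2 • z :=
      fun w => ⟨fun ⟨_, e, z, hz, e'⟩ => ⟨e.trans y3, ⟨z, hz⟩, Subtype.ext e'⟩,
        fun ⟨e, z, e'⟩ => ⟨w.2, e.trans y3.symm, z, z.2, congrArg Subtype.val e'⟩⟩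
    have neg : ∀ x ∈ (fun w => ((φ.symm w : M) : V × ℚ).1) '' C \ {0},
        -x ∈ (fun w => ((φ.symm w : M) : V × ℚ).1) '' C \ {0} := by
      rintro _ ⟨⟨w, hw, rfl⟩, h0⟩
      obtain ⟨e, z, e'⟩ := (mem w).1 hw
      exact ⟨⟨-w, (mem _).2 ⟨by rwa [AddSubgroup.coe_neg, sqNorm_neg], z + w, by
        rw [smul_add, ← e', two_nsmul]; abel⟩, by simp⟩, neg_ne_zero.2 h0⟩
    refine hI (h.idx ((fun w => ((φ.symm w : M) : V × ℚ).1) '' C \ {0})
      ((cf.image _).subset Set.sdiff_subset)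
      ((Set.ncard_le_ncard Set.sdiff_subset (cf.image _)).trans ((Set.ncard_image_le cf).trans c48.le))
      ?_ (fun e => e.2 rfl) neg ?_)
    · by_contra e
      have z1 : ∀ w ∈ C, ((φ.symm w : M) : V × ℚ).1 = 0 ∧
          (64 : ℚ) = 8 * (m * (((φ.symm w : M) : V × ℚ).2 * ((φ.symm w : M) : V × ℚ).2)) := fun w hw => by
        have e1 : ((φ.symm w : M) : V × ℚ).1 = 0 := by_contra fun e1 => e ⟨_, ⟨w, hw, rfl⟩, e1⟩
        have := hn (φ.symm w)
        rw [φ.apply_symm_apply, ((mem w).1 hw).1, eForm_apply, e1, map_zero, zero_add] at this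
        exact ⟨e1, by exact_mod_cast this⟩
      obtain ⟨a1, a2⟩ := z1 y ((mem y).2 ⟨y3, 0, by simp⟩)
      have : C ⊆ {y, -y} := fun w hw => by
        obtain ⟨b1, b2⟩ := z1 w hw
        have hm' : (m : ℚ) ≠ 0 := by exact_mod_cast hm.ne'
        rcases mul_self_eq_mul_self_iff.1 (mul_left_cancel₀ hm'
          (mul_left_cancel₀ (by norm_num) (b2.symm.trans a2))) with e1 | e1
        · exact .inl (pinj _ _ (Prod.ext (b1.trans a1.symm) e1))
        · exact .inr (pinj _ _ (Prod.ext (by simp [a1, b1]) (by simpa using e1)))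
      have := (Set.ncard_le_ncard this).trans (Set.ncard_insert_le _ _)
      rw [Set.ncard_singleton] at this
      omega
    · rintro g _ ⟨⟨w, hw, rfl⟩, h0⟩
      obtain ⟨e, z', e'⟩ := (mem w).1 hw
      have : ((ε g : ℤ) : ℚ) • ρ g ((φ.symm w : M) : V × ℚ).1 ∈
          (fun w => ((φ.symm w : M) : V × ℚ).1) '' C \ {0} := by
        refine ⟨⟨ψ g • w, (mem _).2 ⟨by rwa [sqNorm_smul], ψ g • z - z + ψ g • z', ?_⟩,
          congrArg Prod.fst (hψ g w)⟩, smul_ne_zero (by simp) fun e1 => h0 ?_⟩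
        · rw [smul_add, ← cg, ← smul_nsmul, ← e', smul_sub]; abel
        · have := congrArg (ρ g⁻¹) e1
          rwa [← Module.End.mul_apply, ← map_mul, inv_mul_cancel, map_one, map_zero] at this
      rcases Int.units_eq_one_or (ε g) with e1 | e1
      · simpa only [e1, Units.val_one, Int.cast_one, one_smul] using this
      · simpa only [e1, Units.val_neg, Units.val_one, Int.cast_neg, Int.cast_one, neg_smul, one_smul,
          neg_neg] using neg _ this
  have x0 : ((φ.symm y : M) : V × ℚ).1 = 0 := h.eq_zero fun g => by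
    have e := congrArg Prod.fst (hψ g y)
    have : ∃ c : ℚ, ((φ.symm (ψ g • y) : M) : V × ℚ).1 = c • ((φ.symm y : M) : V × ℚ).1 := by
      by_cases e1 : y = ψ g • y
      · exact ⟨1, by rw [← e1, one_smul]⟩
      · rcases Cfsg.Agent.S5592.result _ _ y.2 (ψ g • y).2 (fun e => e1 (Subtype.ext e)) yn
          (by rwa [sqNorm_smul]) ⟨_, (ψ g • z - z).2, congrArg Subtype.val (cg g)⟩ with e2 | e2
        · exact ⟨-1, by rw [show ψ g • y = -y from neg_eq_iff_eq_neg.1 (Subtype.ext e2).symm]; simp⟩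
        · exact (y3 e2.1).elim
    obtain ⟨c, hc⟩ := this
    refine ⟨((ε g : ℤ) : ℚ) * c, ?_⟩
    rw [mul_smul, ← hc, e, smul_smul, sq_one, one_smul]
  have fy : ∀ g, ψ g • y = y := fun g => pinj _ _ (by rw [hψ, x0, map_zero, smul_zero, ← x0])
  by_cases y4 : sqNorm (y : GolayPt → ℤ) = 32
  · exact .inl (emb ψ ε inj fy (Cfsg.Agent.S0400.result y leechU y4 (by decide)))
  · exact .inr (emb ψ ε inj fy (Cfsg.Agent.S0401.result y leechV (by omega) (by decide)))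

end CL.F23
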